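import Cfsg.Agent.Lib.CosetEnum.Defs

/-! Relator words on the eleven nodes of a subdiagram of type `Y₅₃₂`. -/

set_option autoImplicit false
set_option maxRecDepth 20000

namespace Cfsg.Lib.CosetEnum.Y555Fi23

/-- The Coxeter words and the spider. -/
def relWords : List (List Nat) :=
  [[0, 0],
    [1, 1],
    [2, 2],
    [3, 3],
    [4, 4],
    [5, 5],
    [6, 6],
    [7, 7],
    [8, 8],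
    [9, 9],
    [10, 10],
    [1, 0, 1, 0, 1, 0],
    [2, 0, 2, 0],
    [3, 0, 3, 0],
    [4, 0, 4, 0],
    [5, 0, 5, 0],
    [6, 0, 6, 0, 6, 0],
    [7, 0, 7, 0],
    [8, 0, 8, 0],
    [9, 0, 9, 0, 9, 0],
    [10, 0, 10, 0],
    [2, 1, 2, 1, 2, 1],
    [3, 1, 3, 1],
    [4, 1, 4, 1],
    [5, 1, 5, 1],
    [6, 1, 6, 1],
    [7, 1, 7, 1],
    [8, 1, 8, 1],
    [9, 1, 9, 1],
    [10, 1, 10, 1],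
    [3, 2, 3, 2, 3, 2],
    [4, 2, 4, 2],
    [5, 2, 5, 2],
    [6, 2, 6, 2],
    [7, 2, 7, 2],
    [8, 2, 8, 2],
    [9, 2, 9, 2],
    [10, 2, 10, 2],
    [4, 3, 4, 3, 4, 3],
    [5, 3, 5, 3],
    [6, 3, 6, 3],
    [7, 3, 7, 3],
    [8, 3, 8, 3],
    [9, 3, 9, 3],
    [10, 3, 10, 3],
    [5, 4, 5, 4, 5, 4],
    [6, 4, 6, 4],
    [7, 4, 7, 4],
    [8, 4, 8, 4],
    [9, 4, 9, 4],
    [10, 4, 10, 4],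
    [6, 5, 6, 5],
    [7, 5, 7, 5],
    [8, 5, 8, 5],
    [9, 5, 9, 5],
    [10, 5, 10, 5],
    [7, 6, 7, 6, 7, 6],
    [8, 6, 8, 6],
    [9, 6, 9, 6],
    [10, 6, 10, 6],
    [8, 7, 8, 7, 8, 7],
    [9, 7, 9, 7],
    [10, 7, 10, 7],
    [9, 8, 9, 8],
    [10, 8, 10, 8],
    [10, 9, 10, 9, 10, 9],
    [10, 9, 0, 2, 1, 0, 7, 6, 0, 10, 9, 0, 2, 1, 0, 7, 6, 0, 10, 9, 0, 2, 1, 0, 7, 6, 0, 10, 9, 0, 2, 1, 0, 7, 6, 0, 10, 9, 0, 2, 1, 0, 7, 6, 0, 10, 9, 0, 2, 1, 0, 7, 6, 0, 10, 9, 0, 2, 1, 0, 7, 6, 0, 10, 9, 0, 2, 1, 0, 7, 6, 0, 10, 9, 0, 2, 1, 0, 7, 6, 0, 10, 9, 0, 2, 1, 0, 7, 6, 0]]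

/-- The spider in the other orientation. -/
def spiderWord : List Nat :=
  [10, 9, 0, 7, 6, 0, 2, 1, 0, 10, 9, 0, 7, 6, 0, 2, 1, 0, 10, 9, 0, 7, 6, 0, 2, 1, 0, 10, 9, 0, 7, 6, 0, 2, 1, 0, 10, 9, 0, 7, 6, 0, 2, 1, 0, 10, 9, 0, 7, 6, 0, 2, 1, 0, 10, 9, 0, 7, 6, 0, 2, 1, 0, 10, 9, 0, 7, 6, 0, 2, 1, 0, 10, 9, 0, 7, 6, 0, 2, 1, 0, 10, 9, 0, 7, 6, 0, 2, 1, 0]

/-- The ninth power of the Coxeter element of type `E₇`. -/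
def e7Word : List Nat :=
  [3, 7, 2, 9, 6, 1, 0, 3, 7, 2, 9, 6, 1, 0, 3, 7, 2, 9, 6, 1, 0, 3, 7, 2, 9, 6, 1, 0, 3, 7, 2, 9, 6, 1, 0, 3, 7, 2, 9, 6, 1, 0, 3, 7, 2, 9, 6, 1, 0, 3, 7, 2, 9, 6, 1, 0, 3, 7, 2, 9, 6, 1, 0]

end Cfsg.Lib.CosetEnum.Y555Fi23
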