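import Cfsg.Agent.Lib.CosetEnum.Y555Fi23.Data

/-! Kernel checks on the table of Fi23. -/

set_option autoImplicit false
set_option maxRecDepth 20000

namespace Cfsg.Lib.CosetEnum.Y555Fi23

theorem same12 : sameOK Fi23Fi22.tabP Fi23Centre.tabT 10 e7Fi23 7 1000 12000 = true := by
  decide +kernel

theorem same13 : sameOK Fi23Fi22.tabP Fi23Centre.tabT 10 e7Fi23 7 1000 13000 = true := by
  decide +kernel

theorem same14 : sameOK Fi23Fi22.tabP Fi23Centre.tabT 10 e7Fi23 7 1000 14000 = true := by
  decide +kernel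

theorem same15 : sameOK Fi23Fi22.tabP Fi23Centre.tabT 10 e7Fi23 7 1000 15000 = true := by
  decide +kernel

end Cfsg.Lib.CosetEnum.Y555Fi23
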