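import Cfsg.Agent.Lib.CosetEnum.Y555Fi23.Part0
import Cfsg.Agent.Lib.CosetEnum.Y555Fi23.Part1
import Cfsg.Agent.Lib.CosetEnum.Y555Fi23.Part2
import Cfsg.Agent.Lib.CosetEnum.Y555Fi23.Part3
import Cfsg.Agent.Lib.CosetEnum.Y555Fi23.Part4
import Cfsg.Agent.Lib.CosetEnum.Y555Fi23.Part5
import Cfsg.Agent.Lib.CosetEnum.Y555Fi23.Part6
import Cfsg.Agent.Lib.CosetEnum.Y555Fi23.Part7

/-! Kernel checks on the table of Fi23. -/

set_option autoImplicit false
set_option maxRecDepth 20000

namespace Cfsg.Lib.CosetEnum.Y555Fi23

theorem same_ok : sameOK Fi23Fi22.tabP Fi23Centre.tabT 10 e7Fi23 7 31671 0 = true :=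
  (sameOK_append (a := 16000) (b := 15671) (sameOK_append (a := 8000) (b := 8000) (sameOK_append (a := 4000) (b := 4000) (sameOK_append (a := 2000) (b := 2000) (sameOK_append (a := 1000) (b := 1000) same0 same1) (sameOK_append (a := 1000) (b := 1000) same2 same3)) (sameOK_append (a := 2000) (b := 2000) (sameOK_append (a := 1000) (b := 1000) same4 same5) (sameOK_append (a := 1000) (b := 1000) same6 same7))) (sameOK_append (a := 4000) (b := 4000) (sameOK_append (a := 2000) (b := 2000) (sameOK_append (a := 1000) (b := 1000) same8 same9) (sameOK_append (a := 1000) (b := 1000) same10 same11)) (sameOK_append (a := 2000) (b := 2000) (sameOK_append (a := 1000) (b := 1000) same12 same13) (sameOK_append (a := 1000) (b := 1000) same14 same15)))) (sameOK_append (a := 8000) (b := 7671) (sameOK_append (a := 4000) (b := 4000) (sameOK_append (a := 2000) (b := 2000) (sameOK_append (a := 1000) (b := 1000) same16 same17) (sameOK_append (a := 1000) (b := 1000) same18 same19)) (sameOK_append (a := 2000) (b := 2000) (sameOK_append (a := 1000) (b := 1000) same20 same21)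 (sameOK_append (a := 1000) (b := 1000) same22 same23))) (sameOK_append (a := 4000) (b := 3671) (sameOK_append (a := 2000) (b := 2000) (sameOK_append (a := 1000) (b := 1000) same24 same25) (sameOK_append (a := 1000) (b := 1000) same26 same27)) (sameOK_append (a := 2000) (b := 1671) (sameOK_append (a := 1000) (b := 1000) same28 same29) (sameOK_append (a := 1000) (b := 671) same30 same31)))))

end Cfsg.Lib.CosetEnum.Y555Fi23
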