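import Cfsg.Agent.Lib.CosetEnum.Defs

/-!
# Checks that a tabulated word agrees with another and satisfies a braid relation
-/

set_option autoImplicit false

namespace Cfsg.Lib.CosetEnum.Y555Fi23

/-- The word `w` has the images listed in `T`, and `T` composed with the generator `g` cubes to one. -/
noncomputable def sameOK (Z T : Tab) (k : Nat) (w : List Nat) (g : Nat) : Nat → Nat → Bool
  | 0, _ => true
  | m + 1, i => force i fun i => (Nat.beq (twalk Z k w i) (T.getP i) &&
      force (T.getP (img Z k g i)) fun a => force (T.getP (img Z k g a)) fun b =>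
        Nat.beq (T.getP (img Z k g b)) i) &&
      sameOK Z T k w g m (i + 1)

theorem sameOK_append {Z T : Tab} {k : Nat} {w : List Nat} {g : Nat} : ∀ {a b i : Nat},
    sameOK Z T k w g a i = true → sameOK Z T k w g b (i + a) = true →
      sameOK Z T k w g (a + b) i = true
  | 0, b, i, _, h => by simpa using h
  | a + 1, b, i, h, h' => by
    rw [sameOK, force_eq, Bool.and_eq_true] at h
    rw [show a + 1 + b = (a + b) + 1 by omega, sameOK, force_eq, Bool.and_eq_true]
    exact ⟨h.1, sameOK_append h.2 (by rwa [show i + 1 + a = i + (a + 1) by omega])⟩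

theorem sameOK_get {Z T : Tab} {k : Nat} {w : List Nat} {g : Nat} : ∀ {m i : Nat},
    sameOK Z T k w g m i = true → ∀ j, i ≤ j → j < i + m →
      twalk Z k w j = T.getP j ∧ T.getP (img Z k g (T.getP (img Z k g (T.getP (img Z k g j))))) = j
  | 0, i, _, j, h1, h2 => by omega
  | m + 1, i, hc, j, h1, h2 => by
    rw [sameOK, force_eq, Bool.and_eq_true] at hc
    rcases Nat.eq_or_lt_of_le h1 with h | h
    · subst h
      have h3 := hc.1
      simp only [force_eq, Bool.and_eq_true, Nat.beq_eq] at h3
      exact h3
    · exact sameOK_get hc.2 j h (by omega)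

end Cfsg.Lib.CosetEnum.Y555Fi23
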