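import Cfsg.Agent.Lib.CosetEnum.Y555Fi23.Checks
import Cfsg.Agent.Lib.CosetEnum.Fi23Fi22.Data
import Cfsg.Agent.Lib.CosetEnum.Fi23Centre.Data

/-! Kernel checks on the table of Fi23. -/

set_option autoImplicit false
set_option maxRecDepth 20000

namespace Cfsg.Lib.CosetEnum.Y555Fi23

/-- The `E₇` word in the numbering of Fi23. -/
def e7Fi23 : List Nat :=
  [6, 1, 5, 8, 2, 4, 3, 6, 1, 5, 8, 2, 4, 3, 6, 1, 5, 8, 2, 4, 3, 6, 1, 5, 8, 2, 4, 3, 6, 1, 5, 8, 2, 4, 3, 6, 1, 5, 8, 2, 4, 3, 6, 1, 5, 8, 2, 4, 3, 6, 1, 5, 8, 2, 4, 3, 6, 1, 5, 8, 2, 4, 3]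

end Cfsg.Lib.CosetEnum.Y555Fi23
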